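import Cfsg.Agent.H664.R1.Split
import Cfsg.Agent.H661.SC.Fix

/-!
# Fixed vectors of `p`-subgroups in principal series characters (helper532)

* `Split.card_conj_le` : the elements conjugating an element of the torus into the Borel subgroup;
* `Split.exists_regular` : a `2`-subgroup with a regular orbit on the cosets of the Borel subgroup;
* `Split.fix_ps_of_regular`, `fixAll_hom` : fixed vectors in the principal series.
-/

set_option autoImplicit false

open Cfsg

namespace Cfsg.Agent.H532.Imc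

open Cfsg.Agent.H664.R1 Cfsg.Agent.H625.SylConst Cfsg.Agent.H661.SC Cfsg.Agent.Characters.Core

universe u

section split

variable {G : Type u} [Group G] (D : Split G)

theorem comm_of_conj {t u b : G} (ht : t ∈ D.T) (hu : u ∈ D.U) (hb : b ∈ D.B)
    (h : (u * D.w * b)⁻¹ * t * (u * D.w * b) ∈ D.B) : u * t = t * u := by
  have h1 := D.mem_T_of_conj hb hu (D.TB ht) h
  have h2 : t⁻¹ * (u⁻¹ * t * u) ∈ D.U := by
    have e : t⁻¹ * (u⁻¹ * t * u) = (t⁻¹ * u⁻¹ * t) * u := by group
    rw [e]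
    exact D.U.mul_mem (D.nU' (D.TB ht) (D.U.inv_mem hu)) hu
  have h3 := D.disj _ h2 (D.T.mul_mem (D.T.inv_mem ht) h1)
  have h4 : u⁻¹ * t * u = t := by
    rw [inv_mul_eq_one] at h3
    exact h3.symm
  have h5 : u * (u⁻¹ * t * u) = t * u := by group
  rw [h4] at h5
  exact h5

/-- The elements conjugating `t ∈ T` into the Borel subgroup. -/
theorem card_conj_le [Finite G] {t : G} (ht : t ∈ D.T) {c : ℕ}
    (hc : Nat.card {u : G // u ∈ D.U ∧ u * t = t * u} ≤ c) :
    Nat.card {g : G // g⁻¹ * t * g ∈ D.B} ≤ (c + 1) * Nat.card D.B := by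
  classical
  let C := {u : G // u ∈ D.U ∧ u * t = t * u}
  let φ : Option C × D.B → G := fun p => match p.1 with
    | none => (p.2 : G)
    | some u => (u : G) * D.w * p.2
  have key : ∀ g : {g : G // g⁻¹ * t * g ∈ D.B}, ∃ p : Option C × D.B, φ p = g.1 := by
    rintro ⟨g, hg⟩
    by_cases hgB : g ∈ D.B
    · exact ⟨(none, ⟨g, hgB⟩), rfl⟩
    · obtain ⟨b, hb, c', hc', rfl⟩ := D.big g hgB
      obtain ⟨u, hu, s, hs, rfl⟩ := D.dec b hb
      have e : u * s * D.w * c' = u * D.w * (D.w⁻¹ * s * D.w * c') := by group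
      have hb' : D.w⁻¹ * s * D.w * c' ∈ D.B := D.B.mul_mem (D.TB (D.wT s hs)) hc'
      rw [e] at hg
      exact ⟨(some ⟨u, hu, comm_of_conj D ht hu hb' hg⟩, ⟨_, hb'⟩), e.symm⟩
  choose f hf using key
  have hinj : Function.Injective f := fun a b hab => Subtype.ext (by rw [← hf a, ← hf b, hab])
  have h1 := Nat.card_le_card_of_injective f hinj
  rw [Nat.card_prod, Finite.card_option] at h1
  exact h1.trans (Nat.mul_le_mul_right _ (Nat.add_le_add_right hc 1))

/-- Involutions of the Borel subgroup are conjugate to elements of the torus, if `U` has odd order. -/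
theorem exists_conj_T [Finite G] (hU : Odd (Nat.card D.U)) {z : G} (hz : z ∈ D.B) (h2 : z * z = 1) :
    ∃ v : G, v⁻¹ * z * v ∈ D.T := by
  obtain ⟨u, hu, t, ht, rfl⟩ := D.dec z hz
  have h3 : t * t ∈ D.U := by
    have e : t * t = (u * (t * u * t⁻¹))⁻¹ * (u * t * (u * t)) := by group
    rw [e, h2, mul_one]
    exact D.U.inv_mem (D.U.mul_mem hu (D.nU t (D.TB ht) u hu))
  have h4 : t * t = 1 := D.disj _ h3 (D.T.mul_mem ht ht)
  have h5 : t * u * t⁻¹ = u⁻¹ := by
    have e : u * (t * u * t⁻¹) = (u * t * (u * t)) * (t * t)⁻¹ := by group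
    rw [h2, h4, inv_one, mul_one] at e
    exact eq_inv_of_mul_eq_one_right e
  obtain ⟨m, hm⟩ := hU
  have hu1 : u ^ (2 * m + 1) = 1 := by
    rw [← hm]
    have h6 : (⟨u, hu⟩ : D.U) ^ Nat.card D.U = 1 := pow_card_eq_one'
    exact congrArg Subtype.val h6
  -- `v = u ^ (m + 1)` has square `u`
  set v := u ^ (m + 1) with hv
  have hvv : v * v = u := by
    rw [hv, ← pow_add, show m + 1 + (m + 1) = 2 * m + 1 + 1 by ring, pow_succ, hu1, one_mul]
  have hvt : t * v * t⁻¹ = v⁻¹ := by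
    rw [hv, ← conj_pow, h5, inv_pow]
  refine ⟨v, ?_⟩
  have e : v⁻¹ * (u * t) * v = t := by
    calc v⁻¹ * (u * t) * v = v⁻¹ * u * (t * v * t⁻¹) * t := by group
      _ = v⁻¹ * (v * v) * v⁻¹ * t := by rw [hvt, hvv]
      _ = t := by group
  rw [e]
  exact ht

theorem card_conj_le' [Finite G] (hU : Odd (Nat.card D.U)) {c : ℕ}
    (hc : ∀ t ∈ D.T, t ≠ 1 → Nat.card {u : G // u ∈ D.U ∧ u * t = t * u} ≤ c) {z : G} (hz1 : z ≠ 1)
    (h2 : z * z = 1) : Nat.card {g : G // g⁻¹ * z * g ∈ D.B} ≤ (c + 1) * Nat.card D.B := by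
  classical
  by_cases hex : ∃ g₀ : G, g₀⁻¹ * z * g₀ ∈ D.B
  · obtain ⟨g₀, hg₀⟩ := hex
    obtain ⟨v, hv⟩ := exists_conj_T D hU hg₀ (by
      have e : g₀⁻¹ * z * g₀ * (g₀⁻¹ * z * g₀) = g₀⁻¹ * (z * z) * g₀ := by group
      rw [e, h2]
      group)
    set k := g₀ * v with hk
    have e : v⁻¹ * (g₀⁻¹ * z * g₀) * v = k⁻¹ * z * k := by
      rw [hk]
      group
    rw [e] at hv
    have h3 := card_conj_le D hv (hc _ hv (fun h => hz1 (by
      have e2 : z = k * (k⁻¹ * z * k) * k⁻¹ := by group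
      rw [e2, h]
      group)))
    refine le_trans (le_of_eq ?_) h3
    refine Nat.card_congr ⟨fun g => ⟨k⁻¹ * g.1, ?_⟩, fun g => ⟨k * g.1, ?_⟩, ?_, ?_⟩
    · have e3 : (k⁻¹ * g.1)⁻¹ * (k⁻¹ * z * k) * (k⁻¹ * g.1) = g.1⁻¹ * z * g.1 := by group
      rw [e3]
      exact g.2
    · have e3 : (k * g.1)⁻¹ * z * (k * g.1) = g.1⁻¹ * (k⁻¹ * z * k) * g.1 := by group
      rw [e3]
      exact g.2
    · intro g
      apply Subtype.ext
      show k * (k⁻¹ * g.1) = g.1
      group
    · intro g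
      apply Subtype.ext
      show k⁻¹ * (k * g.1) = g.1
      group
  · push Not at hex
    have : IsEmpty {g : G // g⁻¹ * z * g ∈ D.B} := ⟨fun g => hex g.1 g.2⟩
    rw [Nat.card_of_isEmpty]
    exact Nat.zero_le _

/-- **A regular orbit** of a 2-subgroup on the cosets of the Borel subgroup. -/
theorem exists_regular [Finite G] (hU : Odd (Nat.card D.U)) {c : ℕ}
    (hc : ∀ t ∈ D.T, t ≠ 1 → Nat.card {u : G // u ∈ D.U ∧ u * t = t * u} ≤ c) (P : Subgroup G)
    (hP : IsPGroup 2 P) (hcard : (Nat.card P - 1) * (c + 1) < Nat.card D.U + 1) :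
    ∃ g : G, ∀ z ∈ P, g⁻¹ * z * g ∈ D.B → z = 1 := by
  classical
  by_contra hcon
  push Not at hcon
  have := Fintype.ofFinite G
  have := Fintype.ofFinite P
  -- every element of `G` conjugates an involution of `P` into `B`
  have key : ∀ g : G, ∃ z ∈ P, z ≠ 1 ∧ z * z = 1 ∧ g⁻¹ * z * g ∈ D.B := by
    intro g
    obtain ⟨z, hz, hzB, hz1⟩ := hcon g
    obtain ⟨k, hk⟩ := IsPGroup.iff_orderOf.1 hP ⟨z, hz⟩
    have hk' : orderOf z = 2 ^ k := by
      rw [← hk, Subgroup.orderOf_mk]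
    have hk0 : k ≠ 0 := by
      rintro rfl
      rw [pow_zero, orderOf_eq_one_iff] at hk'
      exact hz1 hk'
    obtain ⟨j, rfl⟩ := Nat.exists_eq_succ_of_ne_zero hk0
    refine ⟨z ^ (2 ^ j), P.pow_mem hz _, ?_, ?_, ?_⟩
    · intro h
      have h1 := orderOf_dvd_of_pow_eq_one h
      rw [hk', Nat.pow_dvd_pow_iff_le_right (by norm_num)] at h1
      omega
    · rw [← pow_add, ← two_mul, ← pow_succ', ← Nat.succ_eq_add_one, ← hk', pow_orderOf_eq_one]
    · have e : g⁻¹ * z ^ (2 ^ j) * g = (g⁻¹ * z * g) ^ (2 ^ j) := by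
        have := (conj_pow (i := 2 ^ j) (a := g⁻¹) (b := z)).symm
        rwa [inv_inv] at this
      rw [e]
      exact D.B.pow_mem hzB _
  have h1 : (Finset.univ : Finset G) ⊆ (Finset.univ.filter fun z : P => z ≠ 1).biUnion
      (fun z => if (z : G) * z = 1 then Finset.univ.filter fun g : G => g⁻¹ * (z : G) * g ∈ D.B else ∅) := by
    intro g _
    obtain ⟨z, hz, h2, h3, h4⟩ := key g
    rw [Finset.mem_biUnion]
    refine ⟨⟨z, hz⟩, Finset.mem_filter.2 ⟨Finset.mem_univ _, fun h => h2 (congrArg Subtype.val h)⟩, ?_⟩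
    rw [if_pos h3]
    exact Finset.mem_filter.2 ⟨Finset.mem_univ _, h4⟩
  have h2 := (Finset.card_le_card h1).trans (Finset.card_biUnion_le_card_mul _ _ ((c + 1) * Nat.card D.B) (by
    intro z hz
    have hz1 : (z : G) ≠ 1 := fun h => (Finset.mem_filter.1 hz).2 (Subtype.ext h)
    split_ifs with h
    · have h3 := card_conj_le' D hU hc hz1 h
      rwa [Nat.card_eq_fintype_card, Fintype.card_subtype] at h3
    · exact Nat.zero_le _))
  have h3 : (Finset.univ.filter fun z : P => z ≠ 1).card = Nat.card P - 1 := by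
    rw [Finset.filter_ne' Finset.univ (1 : P), Finset.card_erase_of_mem (Finset.mem_univ _), Finset.card_univ,
      Nat.card_eq_fintype_card]
  rw [h3, Finset.card_univ, ← Nat.card_eq_fintype_card, D.card_G, ← mul_assoc] at h2
  have h4 := Nat.le_of_mul_le_mul_right h2 Nat.card_pos
  omega

end split

section fixed

variable {G : Type u} [Group G] [Fintype G] (D : Split G)

/-- A regular orbit gives a fixed vector in each principal series character. -/
theorem fix_ps_of_regular (f : D.B →* ℂˣ) (P : Subgroup G) {g : G} (h : ∀ z ∈ P, g⁻¹ * z * g ∈ D.B → z = 1) :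
    Fix P (D.ps f) := by
  classical
  have := Fintype.ofFinite D.B
  have hc : IsCharacter D.B (fun b => (f b : ℂ)) := Cfsg.Agent.Characters.Linear.isCharacter_hom f
  have h1 : Fix (P.map (MulAut.conj g⁻¹).toMonoidHom) (D.ps f) := by
    rw [D.ps_def]
    refine fix_indFun D.B _ hc ?_
    have hbot : (P.map (MulAut.conj g⁻¹).toMonoidHom).subgroupOf D.B = ⊥ := by
      rw [eq_bot_iff]
      rintro b hb
      obtain ⟨z, hz, hzb⟩ := Subgroup.mem_subgroupOf.1 hb
      have e : g⁻¹ * z * g = (b : G) := by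
        have : g⁻¹ * z * (g⁻¹)⁻¹ = (b : G) := hzb
        rwa [inv_inv] at this
      have h2 := h z hz (by rw [e]; exact b.2)
      rw [Subgroup.mem_bot]
      apply Subtype.ext
      rw [← e, h2]
      group
      rfl
    rw [hbot, fix_iff]
    simp
  have h2 := fix_conj _ (isCharacter_isClassFunction (D.isCharacter_ps f)) g h1
  have e : (P.map (MulAut.conj g⁻¹).toMonoidHom).map (MulAut.conj g).toMonoidHom = P := by
    rw [Subgroup.map_map]
    convert Subgroup.map_id P
    ext x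
    simp [mul_assoc]
  rwa [e] at h2

/-- Linear characters of order prime to `p`. -/
theorem fixAll_hom {H : Type u} [Group H] [Finite H] {p n : ℕ} [hp : Fact p.Prime] (f : H →* ℂˣ)
    (hn : ¬ p ∣ n) (hf : ∀ x, f x ^ n = 1) : FixAll p (fun x => (f x : ℂ)) := by
  intro R hR
  have := Fintype.ofFinite R
  rw [fix_iff]
  have h1 : ∀ z : R, f (z : H) = 1 := by
    intro z
    obtain ⟨k, hk⟩ := IsPGroup.iff_orderOf.1 hR z
    have h2 : f (z : H) ^ p ^ k = 1 := by
      rw [← map_pow, ← hk]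
      have h3 : (z : H) ^ orderOf z = 1 := congrArg Subtype.val (pow_orderOf_eq_one z)
      rw [h3, map_one]
    have h3 : Nat.Coprime (p ^ k) n := Nat.Coprime.pow_left k ((Nat.Prime.coprime_iff_not_dvd hp.out).2 hn)
    have h4 := Nat.dvd_gcd (orderOf_dvd_of_pow_eq_one h2) (orderOf_dvd_of_pow_eq_one (hf (z : H)))
    rw [Nat.coprime_iff_gcd_eq_one.1 h3, Nat.dvd_one, orderOf_eq_one_iff] at h4
    exact h4
  simp only [h1, Units.val_one, Finset.sum_const, nsmul_eq_mul, mul_one, Finset.card_univ]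
  exact_mod_cast Fintype.card_ne_zero

end fixed

end Cfsg.Agent.H532.Imc
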