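import Cfsg.Agent.H532.Imc.SplitFix
import Cfsg.Agent.H661.SC.NonPrin
import Cfsg.Agent.H664.R1.U3Two
import Cfsg.Agent.H794.ImcCyclic

/-!
# `IMC p` for `PSU(3,q)` in the form `S σ` (helper532)

* `card_centr` : the centralizers in `U` of the elements of the torus;
* `exists_f` : irreducible principal series characters, `exists_lam` : linear characters of order prime to `p`;
* `imc_add`, `imc_one_mod_four`, `imc_sub`, `imc_rest` : the cases;
* `imc_S` : all primes but the characteristic, and `2` for `q = 3`.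
-/

set_option autoImplicit false

open Cfsg

namespace Cfsg.Agent.H532.Imc

open Cfsg.Agent.H664.R1 Cfsg.Agent.H664.R1.U3 Cfsg.Agent.H625.SylConst Cfsg.Agent.H661.SC
  Cfsg.Agent.Characters.Core Cfsg.Agent.LieClassical.HermBasic

section general

variable {F : Type*} [Field F] {σ : F →+* F} [hσ : Fact (∀ x, σ (σ x) = x)]

/-- The centralizer in `U` of a nontrivial element of the torus is contained in the root group. -/
theorem centr_le_XP {t : PG σ} (ht : t ∈ (spP σ).T) (ht1 : t ≠ 1) {u : PG σ} (hu : u ∈ (spP σ).U)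
    (h : u * t = t * u) : u ∈ XP σ := by
  obtain ⟨s, rfl⟩ := exists_del ht
  obtain ⟨u, hu, rfl⟩ := hu
  obtain ⟨a, b, hab, rfl⟩ := exists_un hu
  have hs1 : (s : F) ≠ 1 := by
    intro h1
    apply ht1
    have h2 : s = 1 := Units.ext h1
    rw [h2, map_one]
    rfl
  have h1 : (1 : F) * σ 1 = 1 := by rw [map_one, one_mul]
  rw [del_apply] at h
  have h2 : pr σ (dg (s : F) 1 s.ne_zero h1 * un a b hab * (dg (s : F) 1 s.ne_zero h1)⁻¹) = pr σ (un a b hab) := by
    rw [map_mul, map_mul, map_inv, ← h, mul_inv_cancel_right]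
  rw [dg_conj_un (s : F) 1 s.ne_zero h1 a b hab (conj_rel h1 hab)] at h2
  have h3 := (QuotientGroup.eq (s := Sc σ)).1 h2
  have h4 := (split' σ).disj _ ((Un σ).mul_mem ((Un σ).inv_mem (un_mem _ _ _)) (un_mem _ _ _)) (Sc_le h3)
  rw [inv_mul_eq_one] at h4
  have h5 := congrArg (fun g => mat σ g 0 1) h4
  simp only [mat_un] at h5
  have h6 : (s : F) * σ 1 * a = a := by simpa using h5
  have h7 : a = 0 := by
    by_contra ha
    apply hs1
    have h8 : ((s : F) - 1) * a = 0 := by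
      rw [map_one, mul_one] at h6
      linear_combination h6
    rcases mul_eq_zero.1 h8 with h9 | h9
    · linear_combination h9
    · exact absurd h9 ha
  subst h7
  exact ⟨_, ⟨un_mem _ _ _, rfl⟩, rfl⟩

/-- the values of a linear character of the Borel subgroup -/
theorem exists_value {lam : Fˣ →* ℂˣ} {f : (spS σ).B →* ℂˣ}
    (hfU : ∀ b : (spS σ).B, (b : S σ) ∈ (spS σ).U → f b = 1)
    (hf : ∀ (t s : F) (ht : t ≠ 0) (hs : s * σ s = 1)
      (h : pr σ (dg t s ht hs) ∈ S σ) (h' : (⟨_, h⟩ : S σ) ∈ (spS σ).B),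
      f ⟨⟨_, h⟩, h'⟩ = lam (Units.mk0 (t * σ s) (mul_ne_zero ht ((map_ne_zero σ).2
        (left_ne_zero_of_mul_eq_one hs))))) (b : (spS σ).B) : ∃ x : Fˣ, f b = lam x := by
  obtain ⟨u, hu, t, ht, hb⟩ := (spS σ).dec b b.2
  have e : b = (⟨u, (spS σ).UB hu⟩ : (spS σ).B) * ⟨t, (spS σ).TB ht⟩ := Subtype.ext hb
  have h1 : f b = f ⟨t, (spS σ).TB ht⟩ := by
    rw [e, map_mul, hfU _ hu, one_mul]
  obtain ⟨t, htS⟩ := t
  obtain ⟨g, hg, hgt⟩ := (show t ∈ (To σ).map (pr σ) from ht)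
  obtain ⟨a, s, ha, hs, rfl⟩ := exists_dg hg
  subst hgt
  exact ⟨_, h1.trans (hf a s ha hs htS ((spS σ).TB ht))⟩

end general

section finite

variable {F : Type*} [Field F] [Fintype F] {q : ℕ} {σ : F →+* F} [hσ : Fact (∀ x, σ (σ x) = x)]

theorem card_centr (hF : Fintype.card F = q ^ 2) (hs : ∀ x, σ x = x ^ q) (t : S σ) (ht : t ∈ (spS σ).T)
    (ht1 : t ≠ 1) : Nat.card {u : S σ // u ∈ (spS σ).U ∧ u * t = t * u} ≤ q := by
  have : Finite (PG σ) := inferInstance
  rw [← card_XS (σ := σ) hF hs]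
  refine Nat.card_le_card_of_injective (fun u => (⟨u.1, ?_⟩ : XS σ)) ?_
  · exact centr_le_XP (σ := σ) (t := (t : PG σ)) ht (fun h => ht1 (Subtype.ext h)) u.2.1
      (congrArg Subtype.val u.2.2)
  · intro a b hab
    exact Subtype.ext (congrArg (fun x : XS σ => (x : S σ)) hab)

/-- **Irreducible principal series characters.** -/
theorem exists_f (hF : Fintype.card F = q ^ 2) (hs : ∀ x, σ x = x ^ q) [Fintype (S σ)] (lam : Fˣ →* ℂˣ) {c : Fˣ}
    (hc : (c : F) ^ q = c) (hlam : lam c ≠ 1) :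
    ∃ f : (spS σ).B →* ℂˣ, (∀ b, ∃ x : Fˣ, f b = lam x) ∧ IsIrrCharacter (S σ) ((spS σ).ps f) := by
  obtain ⟨t, ht, htn⟩ := exists_norm_eq_ne hF hc c.ne_zero
  rw [← hs] at htn
  obtain ⟨f, hfU, hf⟩ := exists_lin (σ := σ) lam
  refine ⟨f, exists_value hfU hf, (spS σ).isIrr_ps f ⟨tS σ t ht, tS_mem t ht, ?_⟩⟩
  rw [lin_ratio lam f hf t ht]
  intro h
  apply hlam
  have h1 : c = Units.mk0 (t * σ t) (mul_ne_zero ht ((map_ne_zero σ).2 ht)) := Units.ext htn.symm
  rw [h1]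
  exact mul_eq_right.1 h

/-- Linear characters of order prime to `p`. -/
theorem exists_lam (hF : Fintype.card F = q ^ 2) {p r : ℕ} (hp : p.Prime) (hr : r.Prime) (hpr : p ≠ r)
    (hd : r ∣ q - 1) : ∃ (lam : Fˣ →* ℂˣ) (n : ℕ), ¬ p ∣ n ∧ (∀ x, lam x ^ n = 1) ∧
      ∃ c : Fˣ, (c : F) ^ q = c ∧ lam c ≠ 1 := by
  have : Fact r.Prime := ⟨hr⟩
  have hcard : Nat.card Fˣ = (q + 1) * (q - 1) := card_units_eq hF
  have hq0 : q - 1 + 1 = q := by
    rcases Nat.eq_zero_or_pos q with h | h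
    · subst h
      have := Fintype.card_pos (α := F)
      rw [hF] at this
      simp at this
    · omega
  obtain ⟨c, hc⟩ := exists_prime_orderOf_dvd_card' r (G := Fˣ) (hcard ▸ hd.mul_left _)
  have hc1 : c ≠ 1 := by
    rintro rfl
    rw [orderOf_one] at hc
    exact hr.one_lt.ne hc
  obtain ⟨lam0, -, hlam⟩ := OddOrderCharacters.PrimeTI.exists_hom_ne_one
    (G := Fˣ) ⟨⟨fun a b => mul_comm a b⟩⟩ ⊥ (w := c) (by rwa [Subgroup.mem_bot])
  obtain ⟨a, n, hn, hN⟩ := Nat.exists_eq_pow_mul_and_not_dvd (n := Nat.card Fˣ) Nat.card_pos.ne' p hp.ne_one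
  refine ⟨lam0 ^ p ^ a, n, hn, fun x => ?_, c, ?_, fun h => ?_⟩
  · rw [MonoidHom.pow_apply, ← pow_mul, ← hN, ← map_pow, pow_card_eq_one', map_one]
  · have h1 : c ^ q = c := by
      obtain ⟨k, hk⟩ := hd
      rw [← hq0, pow_succ, hk, pow_mul, ← hc, pow_orderOf_eq_one, one_pow, one_mul]
    rw [← Units.val_pow_eq_pow_val, h1]
  · rw [MonoidHom.pow_apply] at h
    have h2 : lam0 c ^ r = 1 := by rw [← map_pow, ← hc, pow_orderOf_eq_one, map_one]
    have h3 := Nat.dvd_gcd (orderOf_dvd_of_pow_eq_one h) (orderOf_dvd_of_pow_eq_one h2)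
    have h4 : Nat.Coprime (p ^ a) r := Nat.Coprime.pow_left a ((Nat.coprime_primes hp hr).2 hpr)
    rw [Nat.coprime_iff_gcd_eq_one.1 h4, Nat.dvd_one, orderOf_eq_one_iff] at h3
    exact hlam h3

theorem charDegree_ps (hF : Fintype.card F = q ^ 2) (hs : ∀ x, σ x = x ^ q) [Fintype (S σ)]
    (f : (spS σ).B →* ℂˣ) : charDegree ((spS σ).ps f) = q ^ 3 + 1 := by
  apply H670.PSing.charDegree_eq_of
  rw [(spS σ).ps_one, card_US hF hs]
  push_cast
  ring

/-- `p` divides `q³ + 1` and some other prime divides `q - 1` -/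
theorem imc_add (hF : Fintype.card F = q ^ 2) (hs : ∀ x, σ x = x ^ q) {p r : ℕ} [hp : Fact p.Prime]
    (hr : r.Prime) (hpr : p ≠ r) (hd : r ∣ q - 1) (hp3 : p ∣ q ^ 3 + 1) : IMC p (S σ) := by
  classical
  have : Finite (PG σ) := inferInstance
  have := Fintype.ofFinite (PG σ)
  have := Fintype.ofFinite (S σ)
  have := Fintype.ofFinite (spS σ).B
  obtain ⟨lam, n, hn, hlam, c, hc, hc1⟩ := exists_lam hF hp.out hr hpr hd
  obtain ⟨f, hf, hirr⟩ := exists_f (σ := σ) hF hs lam hc hc1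
  refine FixAll.imc (⟨_, hirr⟩ : IrrCharacter (S σ)) ?_ ?_
  · show FixAll p ((spS σ).ps f)
    rw [(spS σ).ps_def]
    refine FixAll.indFun (spS σ).B (Cfsg.Agent.Characters.Linear.isCharacter_hom f) (fixAll_hom f hn fun b => ?_)
    obtain ⟨x, hx⟩ := hf b
    rw [hx, hlam]
  · show p ∣ charDegree ((spS σ).ps f)
    rwa [charDegree_ps hF hs]

/-- `p = 2`, `q ≡ 1 (mod 4)` -/
theorem imc_one_mod_four (hF : Fintype.card F = q ^ 2) (hs : ∀ x, σ x = x ^ q) (hq : 5 ≤ q) (h4 : q % 4 = 1) :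
    IMC 2 (S σ) := by
  classical
  have : Finite (PG σ) := inferInstance
  have := Fintype.ofFinite (PG σ)
  have := Fintype.ofFinite (S σ)
  have : Fact (Nat.Prime 2) := ⟨Nat.prime_two⟩
  obtain ⟨r, hr, hd⟩ := Nat.exists_prime_and_dvd (n := q - 1) (by omega)
  -- some character of the torus
  obtain ⟨lam, c, hc, hc1⟩ : ∃ (lam : Fˣ →* ℂˣ) (c : Fˣ), (c : F) ^ q = c ∧ lam c ≠ 1 := by
    obtain ⟨p', hp', hne⟩ : ∃ p' : ℕ, p'.Prime ∧ p' ≠ r := by
      by_cases h : r = 2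
      · exact ⟨3, Nat.prime_three, by omega⟩
      · exact ⟨2, Nat.prime_two, fun h' => h h'.symm⟩
    obtain ⟨lam, n, -, -, c, hc, hc1⟩ := exists_lam hF hp' hr hne hd
    exact ⟨lam, c, hc, hc1⟩
  obtain ⟨f, hf, hirr⟩ := exists_f (σ := σ) hF hs lam hc hc1
  obtain ⟨P⟩ : Nonempty (Sylow 2 (S σ)) := inferInstance
  have hodd : Odd q := by
    rw [Nat.odd_iff]
    omega
  have hPcard : Nat.card (P : Subgroup (S σ)) ∣ 4 * (q - 1) := by
    obtain ⟨k, hk⟩ := IsPGroup.iff_card.1 P.isPGroup'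
    have h1 := (Subgroup.card_subgroup_dvd_card (P : Subgroup (S σ))).trans (card_S (σ := σ) hF hs)
    rw [hk] at h1 ⊢
    have e1 : q ^ 3 + 1 = (q + 1) * (q * (q - 1) + 1) := by
      have : q - 1 + 1 = q := by omega
      zify [show 1 ≤ q by omega]
      ring
    obtain ⟨m, hm, hmo⟩ : ∃ m, q + 1 = 2 * m ∧ Odd m := by
      refine ⟨(q + 1) / 2, by omega, ?_⟩
      rw [Nat.odd_iff]
      omega
    have e2 : q ^ 2 - 1 = (q + 1) * (q - 1) := by
      have := Nat.sq_sub_sq q 1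
      simpa using this
    have e3 : (q ^ 3 + 1) * (q ^ 3 * (q ^ 2 - 1)) = (m * (q * (q - 1) + 1) * q ^ 3 * m) * (4 * (q - 1)) := by
      rw [e1, e2, hm]
      ring
    rw [e3] at h1
    refine Nat.Coprime.dvd_of_dvd_mul_left (Nat.Coprime.pow_left k ?_) h1
    rw [Nat.coprime_two_left]
    have h2 : Odd (q * (q - 1) + 1) := by
      refine Even.add_one ?_
      have := Nat.even_mul_pred_self q
      exact this
    exact ((hmo.mul h2).mul (hodd.pow)).mul hmo
  have hPle := Nat.le_of_dvd (by omega) hPcard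
  have hU : Odd (Nat.card (spS σ).U) := by
    rw [card_US hF hs]
    exact hodd.pow
  obtain ⟨g, hg⟩ := exists_regular (spS σ) hU (c := q) (fun t ht ht1 => card_centr hF hs t ht ht1) (P : Subgroup (S σ))
    P.isPGroup' (by
      rw [card_US hF hs]
      have h1 : Nat.card (P : Subgroup (S σ)) - 1 ≤ 4 * (q - 1) := by omega
      have h2 : (Nat.card (P : Subgroup (S σ)) - 1) * (q + 1) ≤ 4 * (q - 1) * (q + 1) := Nat.mul_le_mul_right _ h1
      refine h2.trans_lt ?_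
      obtain ⟨k, rfl⟩ : ∃ k, q = k + 5 := ⟨q - 5, by omega⟩
      have e : k + 5 - 1 = k + 4 := by omega
      rw [e]
      nlinarith [Nat.zero_le k, Nat.zero_le (k ^ 2), Nat.zero_le (k ^ 3)])
  refine ⟨⟨_, hirr⟩, P, ?_, fix_ps_of_regular (spS σ) f _ hg⟩
  show 2 ∣ charDegree ((spS σ).ps f)
  rw [charDegree_ps hF hs]
  exact (hodd.pow.add_one).two_dvd

/-- the torus is cyclic -/
theorem isCyclic_T : IsCyclic (spS σ).T := by
  let φ : Fˣ →* PG σ := (spP σ).B.subtype.comp (del σ)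
  have h1 : IsCyclic φ.range := isCyclic_of_surjective _ φ.rangeRestrict_surjective
  let j : (spS σ).T →* φ.range :=
    { toFun := fun t => ⟨((t : S σ) : PG σ), by
        obtain ⟨s, hs⟩ := exists_del (σ := σ) (t := ((t : S σ) : PG σ)) t.2
        exact ⟨s, hs⟩⟩
      map_one' := rfl
      map_mul' := fun _ _ => rfl }
  refine isCyclic_of_injective j ?_
  intro a b hab
  have h2 : ((a : S σ) : PG σ) = ((b : S σ) : PG σ) := congrArg (fun x : φ.range => (x : PG σ)) hab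
  exact Subtype.ext (Subtype.ext h2)

/-- `p ∣ q - 1`, `p` odd -/
theorem imc_sub (hF : Fintype.card F = q ^ 2) (hq : 3 ≤ q) (hs : ∀ x, σ x = x ^ q) {p : ℕ} [hp : Fact p.Prime]
    (hp2 : p ≠ 2) (hd : p ∣ q - 1) (hd' : p ∣ Nat.card (S σ)) : IMC p (S σ) := by
  classical
  have : Finite (PG σ) := inferInstance
  have h1 : ¬ p ∣ q ^ 3 * (q ^ 3 + 1) := by
    intro h
    have hqm : q ≡ 1 [MOD p] := ((Nat.modEq_iff_dvd' (by omega)).2 hd).symm
    have h2 : q ^ 3 * (q ^ 3 + 1) ≡ 1 ^ 3 * (1 ^ 3 + 1) [MOD p] :=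
      (hqm.pow 3).mul ((hqm.pow 3).add_right 1)
    have h3 := (Nat.modEq_zero_iff_dvd.2 h).symm.trans h2
    have h4 : p ∣ 2 := Nat.modEq_zero_iff_dvd.1 h3.symm
    exact hp2 ((Nat.prime_dvd_prime_iff_eq hp.out Nat.prime_two).1 h4)
  obtain ⟨Q⟩ : Nonempty (Sylow p (spS σ).T) := inferInstance
  have h2 : (Nat.card (S σ)).factorization p = (Nat.card (spS σ).T).factorization p := by
    rw [(spS σ).card_G, (spS σ).card_B, card_US hF hs]
    have e : (q ^ 3 + 1) * (q ^ 3 * Nat.card (spS σ).T) = q ^ 3 * (q ^ 3 + 1) * Nat.card (spS σ).T := by ring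
    rw [e, Nat.factorization_mul (by positivity) Nat.card_pos.ne', Finsupp.add_apply,
      Nat.factorization_eq_zero_of_not_dvd h1, zero_add]
  let P : Sylow p (S σ) := Sylow.ofCard ((Q : Subgroup (spS σ).T).map (spS σ).T.subtype) (by
    rw [Subgroup.card_map_of_injective (Subgroup.subtype_injective _), h2]
    exact Q.card_eq_multiplicity)
  refine H794.Imc.imc_of_cyclic P ?_ (im_S hF hq hs hp.out hd')
  have hT : IsCyclic (spS σ).T := isCyclic_T
  have hQ : IsCyclic (Q : Subgroup (spS σ).T) := inferInstance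
  exact isCyclic_of_surjective _ ((Q : Subgroup (spS σ).T).equivMapOfInjective _
    (Subgroup.subtype_injective (spS σ).T)).surjective

/-- `p` does not divide `q (q² - 1)` -/
theorem imc_rest (hF : Fintype.card F = q ^ 2) (hq : 3 ≤ q) (hs : ∀ x, σ x = x ^ q) {p : ℕ} [hp : Fact p.Prime]
    (h1 : ¬ p ∣ q ^ 3 * (q ^ 2 - 1)) (hd : p ∣ Nat.card (S σ)) : IMC p (S σ) := by
  have : Finite (PG σ) := inferInstance
  obtain ⟨χ, hχ⟩ := exists_ps (σ := σ) hF hq hs
  refine IMC.of_defect_zero hd χ ?_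
  rw [hχ]
  have h2 := (Nat.ordProj_dvd (Nat.card (S σ)) p).trans (card_S (σ := σ) hF hs)
  exact Nat.Coprime.dvd_of_dvd_mul_right
    (Nat.Coprime.pow_left _ ((Nat.Prime.coprime_iff_not_dvd hp.out).2 h1)) h2

/-- All cases but the characteristic, and `p = 2` for `q = 3`. -/
theorem imc_S (hF : Fintype.card F = q ^ 2) (hq : 3 ≤ q) (hs : ∀ x, σ x = x ^ q) {p : ℕ} [hp : Fact p.Prime]
    (hd : p ∣ Nat.card (S σ)) (hchar : ¬ p ∣ q) (h3 : ¬ (q = 3 ∧ p = 2)) : IMC p (S σ) := by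
  have hpq3 : ¬ p ∣ q ^ 3 := fun h => hchar (hp.out.dvd_of_dvd_pow h)
  have e2 : q ^ 2 - 1 = (q + 1) * (q - 1) := by
    have := Nat.sq_sub_sq q 1
    simpa using this
  have e1 : q + 1 ∣ q ^ 3 + 1 := by
    refine ⟨q * (q - 1) + 1, ?_⟩
    zify [show 1 ≤ q by omega]
    ring
  by_cases h1 : p ∣ q ^ 2 - 1
  · by_cases h2 : p = 2
    · subst h2
      have hqo : q % 2 = 1 := by
        rcases Nat.mod_two_eq_zero_or_one q with h | h
        · exact absurd (Nat.dvd_of_mod_eq_zero h) hchar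
        · exact h
      by_cases h4 : q % 4 = 1
      · exact imc_one_mod_four hF hs (by omega) h4
      · have hq3 : q ≠ 3 := fun h => h3 ⟨h, rfl⟩
        obtain ⟨r, hr, hrd⟩ := Nat.exists_prime_and_dvd (n := (q - 1) / 2) (by omega)
        have hr2 : 2 ≠ r := by
          rintro rfl
          omega
        refine imc_add hF hs hr hr2 (hrd.trans ⟨2, by omega⟩) ?_
        have h5 : Odd q := Nat.odd_iff.2 hqo
        exact (h5.pow.add_one).two_dvd
    · rw [e2] at h1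
      by_cases h4 : p ∣ q - 1
      · exact imc_sub hF hq hs h2 h4 hd
      · have h5 : p ∣ q + 1 := (hp.out.dvd_mul.1 h1).resolve_right h4
        obtain ⟨r, hr, hrd⟩ := Nat.exists_prime_and_dvd (n := q - 1) (by omega)
        exact imc_add hF hs hr (fun h => h4 (h ▸ hrd)) hrd (h5.trans e1)
  · exact imc_rest hF hq hs (fun h => (hp.out.dvd_mul.1 h).elim hpq3 h1) hd

end finite

end Cfsg.Agent.H532.Imc
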