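import Cfsg.Agent.H532.Imc.U3
import Cfsg.Agent.H113.OB.Seven
import Cfsg.Agent.H664.R1.U3Iso
import Cfsg.Agent.H113.PSU.Main

/-!
# `IMC p S` for the groups `PSU(3,q)` (helper532)

* `noCent_three` : no element of odd order of `PSU(3,3)` centralizes a Sylow 2-subgroup;
* `imc_u3` : the row of S4526.
-/

set_option autoImplicit false

open Cfsg

namespace Cfsg.Agent.H532.Imc

open Cfsg.Agent.H664.R1 Cfsg.Agent.H664.R1.U3 Cfsg.Agent.H625.SylConst Cfsg.Agent.H661.SC
  Cfsg.Agent.Characters.Core Cfsg.Agent.LieClassical.HermBasic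

universe u

section split

variable {G : Type u} [Group G] (D : Split G)

/-- The centralizer of a nontrivial element of `U` is contained in the Borel subgroup. -/
theorem centr_U_le {v c : G} (hv : v ∈ D.U) (hv1 : v ≠ 1) (hc : c * v = v * c) : c ∈ D.B := by
  by_contra hcB
  obtain ⟨b, hb, c', hc', rfl⟩ := D.big c hcB
  obtain ⟨u, hu, s, hs, rfl⟩ := D.dec b hb
  have e : u * s * D.w * c' = u * D.w * (D.w⁻¹ * s * D.w * c') := by group
  have hb' : D.w⁻¹ * s * D.w * c' ∈ D.B := D.B.mul_mem (D.TB (D.wT s hs)) hc'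
  rw [e] at hc
  refine hv1 (D.eq_one_of_conj hb' hu hv ?_)
  have e2 : (u * D.w * (D.w⁻¹ * s * D.w * c'))⁻¹ * v * (u * D.w * (D.w⁻¹ * s * D.w * c')) = v := by
    rw [mul_assoc, ← hc, ← mul_assoc, inv_mul_cancel, one_mul]
  rw [e2]
  exact D.UB hv

end split

/-- elements of order 7 in a simple group of order 6048 -/
theorem seven_aux {G : Type u} [Group G] [Finite G] (hs : IsSimpleGroup G) (hcard : Nat.card G = 6048) {u : G}
    (hu : orderOf u = 7) : ¬ 32 ∣ Nat.card (Subgroup.centralizer ({u} : Set G)) := by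
  intro h
  have : Fact (Nat.Prime 7) := ⟨by norm_num⟩
  have hz : Nat.card (Subgroup.zpowers u) = 7 := by rw [Nat.card_zpowers, hu]
  have hf : (Nat.card G).factorization 7 = 1 := by
    rw [hcard, Nat.factorization_def _ (by norm_num)]
    rw [show (6048 : ℕ) = 7 ^ 1 * 864 by norm_num, padicValNat.mul (by norm_num) (by norm_num),
      padicValNat.prime_pow, padicValNat.eq_zero_of_not_dvd (by norm_num)]
  let P : Sylow 7 G := Sylow.ofCard (Subgroup.zpowers u) (by rw [hz, hf, pow_one])
  have hP : (P : Subgroup G) = Subgroup.zpowers u := rfl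
  have h1 : (Subgroup.normalizer ((P : Subgroup G) : Set G)).index ≡ 1 [MOD 7] := by
    have h0 := card_sylow_modEq_one 7 G
    rw [P.card_eq_index_normalizer] at h0
    exact h0
  have hCN : Subgroup.centralizer ({u} : Set G) ≤ Subgroup.normalizer ((P : Subgroup G) : Set G) := by
    rw [hP, ← Subgroup.centralizer_closure, ← Subgroup.zpowers_eq_closure]
    exact Subgroup.centralizer_le_normalizer _
  have h2 := Subgroup.index_dvd_of_le hCN
  have h7 : 7 ∣ Nat.card (Subgroup.centralizer ({u} : Set G)) := by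
    rw [← hz]
    refine Subgroup.card_dvd_of_le ?_
    rw [Subgroup.zpowers_le]
    exact Subgroup.mem_centralizer_singleton_iff.2 rfl
  have h224 : 224 ∣ Nat.card (Subgroup.centralizer ({u} : Set G)) :=
    Nat.Coprime.mul_dvd_of_dvd_of_dvd (m := 32) (n := 7) (by norm_num) h h7
  have h27 : (Subgroup.centralizer ({u} : Set G)).index ∣ 27 := by
    obtain ⟨k, hk⟩ := h224
    have h3 := (Subgroup.centralizer ({u} : Set G)).card_mul_index
    rw [hcard, hk, show (6048 : ℕ) = 224 * 27 by norm_num, mul_assoc] at h3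
    exact ⟨k, by rw [mul_comm]; exact (Nat.eq_of_mul_eq_mul_left (by norm_num) h3).symm⟩
  have h4 := h2.trans h27
  have h5 : (Subgroup.normalizer ((P : Subgroup G) : Set G)).index = 1 := by
    have h6 : (Subgroup.normalizer ((P : Subgroup G) : Set G)).index ∈ Nat.divisors 27 :=
      Nat.mem_divisors.2 ⟨h4, by norm_num⟩
    rw [show Nat.divisors 27 = {1, 3, 9, 27} by decide] at h6
    simp only [Finset.mem_insert, Finset.mem_singleton] at h6
    rcases h6 with h6 | h6 | h6 | h6
    · exact h6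
    all_goals
      rw [h6] at h1
      exact absurd h1 (by decide)
  rw [Subgroup.index_eq_one] at h5
  have hN : (P : Subgroup G).Normal := Subgroup.normalizer_eq_top_iff.1 h5
  rcases hs.eq_bot_or_eq_top_of_normal _ hN with h6 | h6
  · have h7' := hz
    rw [← hP, h6, Subgroup.card_bot] at h7'
    omega
  · have h7' := hz
    rw [← hP, h6, Subgroup.card_top, hcard] at h7'
    omega

section three

variable {F : Type*} [Field F] [Fintype F] {σ : F →+* F} [hσ : Fact (∀ x, σ (σ x) = x)]

theorem noCent_three (hF : Fintype.card F = 3 ^ 2) (hs : ∀ x, σ x = x ^ 3) (hsimp : IsSimpleGroup (S σ))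
    (hcard : Nat.card (S σ) = 6048) : NoCent 2 (S σ) := by
  have : Finite (PG σ) := inferInstance
  have : Fact (Nat.Prime 2) := ⟨Nat.prime_two⟩
  have : Fact (Nat.Prime 3) := ⟨Nat.prime_three⟩
  refine noCent_of_elements fun ℓ u hℓ hℓ2 hu hle => ?_
  have h5 : 32 ∣ Nat.card (Subgroup.centralizer ({u} : Set (S σ))) := by
    have h6 : (Nat.card (S σ)).factorization 2 = 5 := by
      rw [hcard, Nat.factorization_def _ (by norm_num)]
      rw [show (6048 : ℕ) = 2 ^ 5 * 189 by norm_num, padicValNat.mul (by norm_num) (by norm_num),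
        padicValNat.prime_pow, padicValNat.eq_zero_of_not_dvd (by norm_num)]
    rw [h6] at hle
    exact (Nat.prime_two.pow_dvd_iff_le_factorization Nat.card_pos.ne').2 hle
  have hℓd : ℓ ∣ 6048 := by
    rw [← hcard, ← hu]
    exact orderOf_dvd_natCard u
  have hℓc : ℓ = 3 ∨ ℓ = 7 := by
    rw [show (6048 : ℕ) = 2 ^ 5 * (3 ^ 3 * 7) by norm_num] at hℓd
    rcases hℓ.dvd_mul.1 hℓd with h | h
    · exact absurd ((Nat.prime_dvd_prime_iff_eq hℓ Nat.prime_two).1 (hℓ.dvd_of_dvd_pow h)) hℓ2
    rcases hℓ.dvd_mul.1 h with h | h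
    · exact Or.inl ((Nat.prime_dvd_prime_iff_eq hℓ Nat.prime_three).1 (hℓ.dvd_of_dvd_pow h))
    · exact Or.inr ((Nat.prime_dvd_prime_iff_eq hℓ (by norm_num)).1 h)
  rcases hℓc with rfl | rfl
  · -- unipotent elements
    obtain ⟨P, hP⟩ := exists_sylow (σ := σ) (q := 3) hF hs (p := 3) (k := 1) (by norm_num) one_ne_zero
    have hz : IsPGroup 3 (Subgroup.zpowers u) := IsPGroup.of_card (n := 1) (by rw [Nat.card_zpowers, hu, pow_one])
    obtain ⟨Q, hQ⟩ := hz.exists_le_sylow
    obtain ⟨g, rfl⟩ := MulAction.exists_smul_eq (S σ) P Q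
    have huQ : u ∈ ((g • P : Sylow 3 (S σ)) : Subgroup (S σ)) := hQ (Subgroup.mem_zpowers u)
    have hv : g⁻¹ * u * g ∈ (spS σ).U := by
      rw [← hP]
      rw [Sylow.coe_subgroup_smul] at huQ
      have h6 := Subgroup.mem_pointwise_smul_iff_inv_smul_mem.1 huQ
      rw [← map_inv, MulAut.smul_def, MulAut.conj_apply, inv_inv] at h6
      exact h6
    have hv1 : g⁻¹ * u * g ≠ 1 := by
      intro h
      have h7 : u = 1 := by
        have e : u = g * (g⁻¹ * u * g) * g⁻¹ := by group
        rw [e, h]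
        group
      rw [h7, orderOf_one] at hu
      omega
    have hle2 : (Subgroup.centralizer ({u} : Set (S σ))).map (MulAut.conj g⁻¹).toMonoidHom ≤ (spS σ).B := by
      rintro _ ⟨c, hc, rfl⟩
      have hc' : c * u = u * c := Subgroup.mem_centralizer_singleton_iff.1 hc
      have e : (MulAut.conj g⁻¹).toMonoidHom c = g⁻¹ * c * g := by
        show g⁻¹ * c * (g⁻¹)⁻¹ = _
        rw [inv_inv]
      rw [e]
      refine centr_U_le (spS σ) hv hv1 ?_
      have e1 : g⁻¹ * c * g * (g⁻¹ * u * g) = g⁻¹ * (c * u) * g := by group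
      have e2 : g⁻¹ * u * g * (g⁻¹ * c * g) = g⁻¹ * (u * c) * g := by group
      rw [e1, e2, hc']
    have h6 := Subgroup.card_dvd_of_le hle2
    rw [Subgroup.card_map_of_injective (MulEquiv.injective _), (spS σ).card_B, card_US hF hs] at h6
    have h7 := (h5.trans h6).trans (Nat.mul_dvd_mul_left _ (card_TS (σ := σ) hF hs))
    norm_num at h7
  · exact seven_aux hsimp hcard hu h5

end three

/-- **`IMC p S` for the groups `PSU(3,q)`**, `q > 2`. -/
theorem imc_u3 {S : Type u} [Group S] [Finite S] (h : Cfsg.Agent.H113.PSU.Main.IsU3 S) (hs : IsSimpleGroup S)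
    {p : ℕ} [hp : Fact p.Prime] (hd : p ∣ Nat.card S) : IMC p S := by
  obtain ⟨F, i1, i2, q, hF, hq, ⟨e⟩⟩ := h
  have h1 : 1 < Fintype.card F := Fintype.one_lt_card
  have hq3 : 3 ≤ q := by
    rw [hF] at h1
    rcases q with _ | _ | _ | q
    · norm_num at h1
    · norm_num at h1
    · exact absurd rfl hq
    · omega
  by_cases hchar : p ∣ q
  · -- the characteristic
    obtain ⟨ℓ, hℓ⟩ := CharP.exists F
    have hℓp : ℓ.Prime := (CharP.char_is_prime_or_zero F ℓ).resolve_right (CharP.char_ne_zero_of_finite F ℓ)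
    have : Fact ℓ.Prime := ⟨hℓp⟩
    obtain ⟨s, hs0, hs1⟩ := FiniteField.card F ℓ
    have h2 : p = ℓ := by
      have h3 : p ∣ ℓ ^ (s : ℕ) := by
        rw [← hs1, hF]
        exact hchar.trans (dvd_pow_self q two_ne_zero)
      exact (Nat.prime_dvd_prime_iff_eq hp.out hℓp).1 (hp.out.dvd_of_dvd_pow h3)
    subst h2
    have hlie : IsLieTypeChar p S :=
      Or.inr (Or.inr (Or.inl ⟨F, i1, i2, hℓ, 3, q, hF, le_rfl, fun h => hq h.2, ⟨e⟩⟩))
    exact imc_char hlie hd
  · obtain ⟨σ, hσ, hs', ⟨e'⟩⟩ := exists_iso hF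
    refine IMC.of_equiv (e.trans e') ?_
    have hd' : p ∣ Nat.card (U3.S σ) := by rwa [Nat.card_congr (e.trans e').toEquiv] at hd
    by_cases h32 : q = 3 ∧ p = 2
    · obtain ⟨rfl, rfl⟩ := h32
      have : Finite (PG σ) := inferInstance
      have hsimp : IsSimpleGroup (U3.S σ) := by
        have := (MulEquiv.isSimpleGroup_congr (e.trans e')).1 hs
        exact this
      have hcard : Nat.card (U3.S σ) = 6048 := by
        rw [← Nat.card_congr e'.toEquiv]
        exact SmallSimple.PSLFacts.card_psu_three_three (by rw [hF]; norm_num)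
      exact imc_of_NB2 ((H113.OB.nb_u33 hF).iso e') (noCent_three hF hs' hsimp hcard)
    · exact imc_S hF hq3 hs' hd' hchar h32

end Cfsg.Agent.H532.Imc
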